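/-
The icosian reflection group modulo its centre is the Hall–Janko group of the permutation model.
-/
import Cfsg.Agent.J2.Calc
import Cfsg.Agent.PM.HJ2

set_option autoImplicit false
set_option linter.unusedSimpArgs false
set_option linter.unusedVariables false
set_option maxRecDepth 100000

namespace CA.J2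

open Cfsg.Spor Quaternion CA.TC CA.PM CA.PM.HJ

/-- data -/
def c2 : Ic := ⟨4, 0, 0, 0, 0, 0, 0, 0⟩
/-- data -/
def rt0 : V3 := ⟨c2, c0, c0⟩
/-- data -/
def lt0 : List ℕ × M3 := ([], ⟨⟨c2, c0, c0⟩, ⟨c0, c2, c0⟩, ⟨c0, c0, c2⟩⟩)
/-- data -/
noncomputable def rtL : List V3 := [⟨⟨4, 0, 0, 0, 0, 0, 0, 0⟩, c0, c0⟩,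
  ⟨c0, ⟨4, 0, 0, 0, 0, 0, 0, 0⟩, c0⟩,
  ⟨c0, ⟨2, 0, 2, 0, 0, 0, 0, 0⟩, ⟨2, 0, -2, 0, 0, 0, 0, 0⟩⟩,
  ⟨c0, ⟨2, 0, 2, 0, 0, 0, 0, 0⟩, ⟨-2, 0, -2, 0, 0, 0, 0, 0⟩⟩,
  ⟨c0, ⟨2, 0, 2, 0, 0, 0, 0, 0⟩, ⟨0, 0, 0, 0, 2, 0, -2, 0⟩⟩,
  ⟨⟨2, 0, 2, 0, 0, 0, 0, 0⟩, c0, ⟨0, 0, 0, 0, -2, 0, 2, 0⟩⟩,
  ⟨⟨2, 0, 2, 0, 0, 0, 0, 0⟩, c0, ⟨0, 0, 0, 0, -2, 0, -2, 0⟩⟩,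
  ⟨⟨2, 0, 2, 0, 0, 0, 0, 0⟩, c0, ⟨-2, 0, -2, 0, 0, 0, 0, 0⟩⟩,
  ⟨⟨2, 0, 1, 0, 1, -1, 0, 1⟩, ⟨-1, 1, 0, -1, 0, 0, -1, 0⟩, ⟨1, -1, 0, 1, 0, 0, 1, 0⟩⟩,
  ⟨⟨2, 0, 1, 0, 1, -1, 0, 1⟩, ⟨0, -1, 1, -1, 1, 0, 0, 0⟩, ⟨0, 1, -1, 1, -1, 0, 0, 0⟩⟩,
  ⟨⟨2, 0, 1, 0, 1, -1, 0, -1⟩, ⟨-1, 0, 0, 0, 0, 1, 1, -1⟩, ⟨-1, 1, 0, 1, 0, 0, -1, 0⟩⟩,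
  ⟨⟨2, 0, 1, 0, 1, -1, 0, -1⟩, ⟨0, -1, -1, 1, -1, 0, 0, 0⟩, ⟨0, 0, -1, 0, 1, -1, 0, -1⟩⟩]
/-- data -/
noncomputable def ltL : List (List ℕ × M3) := [lt0,
  ([0], ⟨⟨⟨-4, 0, 0, 0, 0, 0, 0, 0⟩, c0, c0⟩, ⟨c0, ⟨4, 0, 0, 0, 0, 0, 0, 0⟩, c0⟩, ⟨c0, c0, ⟨4, 0, 0, 0, 0, 0, 0, 0⟩⟩⟩),
  ([1], ⟨⟨⟨4, 0, 0, 0, 0, 0, 0, 0⟩, c0, c0⟩, ⟨c0, ⟨-4, 0, 0, 0, 0, 0, 0, 0⟩, c0⟩, ⟨c0, c0, ⟨4, 0, 0, 0, 0, 0, 0, 0⟩⟩⟩),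
  ([2], ⟨⟨⟨4, 0, 0, 0, 0, 0, 0, 0⟩, c0, c0⟩, ⟨c0, c0, ⟨0, 0, 4, 0, 0, 0, 0, 0⟩⟩, ⟨c0, ⟨0, 0, -4, 0, 0, 0, 0, 0⟩, c0⟩⟩),
  ([3], ⟨⟨⟨4, 0, 0, 0, 0, 0, 0, 0⟩, c0, c0⟩, ⟨c0, c0, ⟨4, 0, 0, 0, 0, 0, 0, 0⟩⟩, ⟨c0, ⟨4, 0, 0, 0, 0, 0, 0, 0⟩, c0⟩⟩),
  ([4], ⟨⟨⟨4, 0, 0, 0, 0, 0, 0, 0⟩, c0, c0⟩, ⟨c0, c0, ⟨0, 0, 0, 0, 0, 0, 4, 0⟩⟩, ⟨c0, ⟨0, 0, 0, 0, 0, 0, -4, 0⟩, c0⟩⟩),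
  ([2, 6, 5, 4], ⟨⟨⟨0, 0, -4, 0, 0, 0, 0, 0⟩, c0, c0⟩, ⟨c0, ⟨0, 0, 0, 0, 0, 0, -4, 0⟩, c0⟩, ⟨c0, c0, ⟨0, 0, 0, 0, -4, 0, 0, 0⟩⟩⟩),
  ([2, 3, 6, 7], ⟨⟨⟨0, 0, 0, 0, -4, 0, 0, 0⟩, c0, c0⟩, ⟨c0, ⟨0, 0, -4, 0, 0, 0, 0, 0⟩, c0⟩, ⟨c0, c0, ⟨0, 0, 0, 0, 0, 0, -4, 0⟩⟩⟩),
  ([1, 4, 8, 9], ⟨⟨⟨0, 0, -2, 0, -2, 2, 0, -2⟩, c0, c0⟩, ⟨c0, ⟨0, 0, 0, 0, 2, 0, 2, 0⟩, ⟨0, 0, 0, 0, -2, 0, 2, 0⟩⟩, ⟨c0, ⟨0, 0, 0, 0, -2, 0, 2, 0⟩, ⟨0, 0, 0, 0, 2, 0, 2, 0⟩⟩⟩),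
  ([1, 3, 10, 11], ⟨⟨⟨0, 0, 0, -2, -2, 0, 2, -2⟩, c0, c0⟩, ⟨c0, ⟨0, 0, 2, 0, 0, 0, 2, 0⟩, ⟨2, 0, 0, 0, -2, 0, 0, 0⟩⟩, ⟨c0, ⟨-2, 0, 0, 0, -2, 0, 0, 0⟩, ⟨0, 0, -2, 0, 0, 0, 2, 0⟩⟩⟩),
  ([5], ⟨⟨c0, c0, ⟨0, 0, 0, 0, 0, 0, -4, 0⟩⟩, ⟨c0, ⟨4, 0, 0, 0, 0, 0, 0, 0⟩, c0⟩, ⟨⟨0, 0, 0, 0, 0, 0, 4, 0⟩, c0, c0⟩⟩)]
/-- data -/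
noncomputable def CY : List Ic := [⟨-2, 0, 0, 0, 0, 0, 0, 0⟩, ⟨0, -1, 0, -1, 0, -1, 0, 1⟩, ⟨0, -1, 0, -1, 0, 1, 0, -1⟩, ⟨0, -1, 0, 1, 0, -1, 0, -1⟩, ⟨0, -1, 0, 1, 0, 1, 0, 1⟩, ⟨0, 0, -2, 0, 0, 0, 0, 0⟩, ⟨0, 0, 0, 0, -2, 0, 0, 0⟩, ⟨0, 0, 0, 0, 0, 0, -2, 0⟩, ⟨0, 0, 0, 0, 0, 0, 2, 0⟩, ⟨0, 0, 0, 0, 2, 0, 0, 0⟩, ⟨0, 0, 2, 0, 0, 0, 0, 0⟩, ⟨0, 1, 0, -1, 0, -1, 0, -1⟩, ⟨0, 1, 0, -1, 0, 1, 0, 1⟩, ⟨0, 1, 0, 1, 0, -1, 0, 1⟩, ⟨0, 1, 0, 1, 0, 1, 0, -1⟩, ⟨2, 0, 0, 0, 0, 0, 0, 0⟩]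
/-- data -/
noncomputable def CC : List (V3 × List ℕ) := [(⟨⟨4, 0, 0, 0, 0, 0, 0, 0⟩, c0, c0⟩, []),
  (⟨c0, ⟨1, -2, 1, 0, 1, 0, 1, 0⟩, ⟨-1, 2, -1, 0, -1, 0, -1, 0⟩⟩, [6, 8, 3, 10]),
  (⟨⟨1, -2, 1, 0, 1, 0, 1, 0⟩, ⟨-1, 0, -1, 0, 1, -2, 1, 0⟩, c0⟩, [10, 8, 10]),
  (⟨⟨1, -2, 1, 0, 1, 0, 1, 0⟩, ⟨-1, 0, 1, -2, 1, 0, -1, 0⟩, c0⟩, [7, 10, 8, 10]),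
  (⟨⟨1, -2, 1, 0, 1, 0, 1, 0⟩, ⟨-1, 0, 1, 0, -1, 0, 1, -2⟩, c0⟩, [10, 6, 8, 3, 10]),
  (⟨⟨1, -2, 1, 0, 1, 0, 1, 0⟩, ⟨-1, 2, -1, 0, -1, 0, -1, 0⟩, c0⟩, [10, 7, 8, 10]),
  (⟨⟨1, -2, 1, 0, 1, 0, 1, 0⟩, ⟨1, -2, 1, 0, 1, 0, 1, 0⟩, c0⟩, [6, 10, 8, 10]),
  (⟨⟨1, -2, 1, 0, 1, 0, 1, 0⟩, ⟨1, 0, -1, 0, 1, 0, -1, 2⟩, c0⟩, [10, 6, 8, 10]),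
  (⟨⟨1, -2, 1, 0, 1, 0, 1, 0⟩, ⟨1, 0, -1, 2, -1, 0, 1, 0⟩, c0⟩, [7, 10, 8, 3, 10]),
  (⟨⟨1, -2, 1, 0, 1, 0, 1, 0⟩, ⟨1, 0, 1, 0, -1, 2, -1, 0⟩, c0⟩, [10, 8, 3, 10]),
  (⟨⟨2, 0, 0, 0, 0, 0, 0, 0⟩, ⟨0, 0, -2, 0, 0, 0, 0, 0⟩, ⟨-1, 0, -1, 0, -1, 0, 1, -2⟩⟩, [7, 10, 9, 7, 10, 8, 10]),
  (⟨⟨2, 0, 0, 0, 0, 0, 0, 0⟩, ⟨0, 0, 2, 0, 0, 0, 0, 0⟩, ⟨-1, 0, -1, 0, -1, 0, 1, -2⟩⟩, [9, 10, 8, 10, 6, 8, 10]),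
  (⟨⟨2, 0, 0, 0, 0, 0, 0, 0⟩, ⟨0, 0, 0, 0, -2, 0, 0, 0⟩, ⟨-1, 0, -1, 0, -1, 2, 1, 0⟩⟩, [10, 8, 10, 6, 8, 10]),
  (⟨⟨2, 0, 0, 0, 0, 0, 0, 0⟩, ⟨0, 0, 0, 0, 2, 0, 0, 0⟩, ⟨-1, 0, -1, 0, -1, 2, 1, 0⟩⟩, [10, 8, 4, 10, 8, 3, 10]),
  (⟨⟨2, 0, 0, 0, 0, 0, 0, 0⟩, ⟨0, 0, 0, 0, 0, 0, -2, 0⟩, ⟨-1, 0, -1, 0, 1, -2, -1, 0⟩⟩, [10, 6, 9, 5, 10, 8, 10]),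
  (⟨⟨2, 0, 0, 0, 0, 0, 0, 0⟩, ⟨0, 0, 0, 0, 0, 0, 2, 0⟩, ⟨-1, 0, -1, 0, 1, -2, -1, 0⟩⟩, [10, 6, 9, 6, 10, 8, 10]),
  (⟨⟨2, 0, 0, 0, 0, 0, 0, 0⟩, ⟨-2, 0, 0, 0, 0, 0, 0, 0⟩, ⟨-1, 0, -1, 0, 1, 0, -1, 2⟩⟩, [6, 10, 9, 10, 6, 8, 10]),
  (⟨⟨2, 0, 0, 0, 0, 0, 0, 0⟩, ⟨2, 0, 0, 0, 0, 0, 0, 0⟩, ⟨-1, 0, -1, 0, 1, 0, -1, 2⟩⟩, [10, 7, 9, 7, 10, 8, 10]),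
  (⟨⟨2, 0, 0, 0, 0, 0, 0, 0⟩, ⟨-2, 0, 0, 0, 0, 0, 0, 0⟩, ⟨-1, 0, -1, 2, -1, 0, 1, 0⟩⟩, [6, 10, 8, 10, 6, 8, 10]),
  (⟨⟨2, 0, 0, 0, 0, 0, 0, 0⟩, ⟨2, 0, 0, 0, 0, 0, 0, 0⟩, ⟨-1, 0, -1, 2, -1, 0, 1, 0⟩⟩, [10, 7, 9, 10, 6, 8, 10]),
  (⟨⟨2, 0, 0, 0, 0, 0, 0, 0⟩, ⟨0, 0, -2, 0, 0, 0, 0, 0⟩, ⟨-1, 0, -1, 2, 1, 0, -1, 0⟩⟩, [7, 10, 9, 10, 6, 8, 10]),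
  (⟨⟨2, 0, 0, 0, 0, 0, 0, 0⟩, ⟨0, 0, 2, 0, 0, 0, 0, 0⟩, ⟨-1, 0, -1, 2, 1, 0, -1, 0⟩⟩, [7, 10, 9, 4, 10, 8, 3, 10]),
  (⟨⟨2, 0, 0, 0, 0, 0, 0, 0⟩, ⟨0, 0, 0, 0, -2, 0, 0, 0⟩, ⟨-1, 0, 1, -2, -1, 0, -1, 0⟩⟩, [10, 9, 6, 10, 8, 10]),
  (⟨⟨2, 0, 0, 0, 0, 0, 0, 0⟩, ⟨0, 0, 0, 0, 2, 0, 0, 0⟩, ⟨-1, 0, 1, -2, -1, 0, -1, 0⟩⟩, [10, 9, 5, 10, 8, 10]),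
  (⟨⟨2, 0, 0, 0, 0, 0, 0, 0⟩, ⟨0, 0, 0, 0, 0, 0, -2, 0⟩, ⟨-1, 0, 1, -2, 1, 0, 1, 0⟩⟩, [10, 6, 8, 4, 10, 8, 10]),
  (⟨⟨2, 0, 0, 0, 0, 0, 0, 0⟩, ⟨0, 0, 0, 0, 0, 0, 2, 0⟩, ⟨-1, 0, 1, -2, 1, 0, 1, 0⟩⟩, [10, 6, 9, 7, 10, 8, 10]),
  (⟨⟨2, 0, 0, 0, 0, 0, 0, 0⟩, ⟨0, 0, 0, 0, 0, 0, -2, 0⟩, ⟨-1, 0, 1, 0, -1, 0, -1, 2⟩⟩, [8, 10, 8, 4, 10, 8, 10]),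
  (⟨⟨2, 0, 0, 0, 0, 0, 0, 0⟩, ⟨0, 0, 0, 0, 0, 0, 2, 0⟩, ⟨-1, 0, 1, 0, -1, 0, -1, 2⟩⟩, [10, 6, 8, 6, 10, 8, 10]),
  (⟨⟨2, 0, 0, 0, 0, 0, 0, 0⟩, ⟨-2, 0, 0, 0, 0, 0, 0, 0⟩, ⟨-1, 0, 1, 0, -1, 2, -1, 0⟩⟩, [6, 10, 9, 10, 7, 8, 10]),
  (⟨⟨2, 0, 0, 0, 0, 0, 0, 0⟩, ⟨2, 0, 0, 0, 0, 0, 0, 0⟩, ⟨-1, 0, 1, 0, -1, 2, -1, 0⟩⟩, [10, 7, 8, 10, 8, 3, 10]),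
  (⟨⟨2, 0, 0, 0, 0, 0, 0, 0⟩, ⟨0, 0, -2, 0, 0, 0, 0, 0⟩, ⟨-1, 0, 1, 0, 1, -2, 1, 0⟩⟩, [7, 10, 8, 10, 8, 3, 10]),
  (⟨⟨2, 0, 0, 0, 0, 0, 0, 0⟩, ⟨0, 0, 2, 0, 0, 0, 0, 0⟩, ⟨-1, 0, 1, 0, 1, -2, 1, 0⟩⟩, [7, 1, 10, 8, 10, 8, 10]),
  (⟨⟨2, 0, 0, 0, 0, 0, 0, 0⟩, ⟨0, 0, 0, 0, -2, 0, 0, 0⟩, ⟨-1, 0, 1, 0, 1, 0, 1, -2⟩⟩, [10, 8, 10, 8, 3, 10]),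
  (⟨⟨2, 0, 0, 0, 0, 0, 0, 0⟩, ⟨0, 0, 0, 0, 2, 0, 0, 0⟩, ⟨-1, 0, 1, 0, 1, 0, 1, -2⟩⟩, [1, 10, 8, 10, 8, 10]),
  (⟨⟨2, 0, 0, 0, 0, 0, 0, 0⟩, ⟨0, -1, 0, 1, 0, 1, 0, 1⟩, ⟨-1, 1, -1, 1, -1, 1, -1, 1⟩⟩, [6, 8, 10, 8, 10, 8, 3, 10]),
  (⟨⟨2, 0, 0, 0, 0, 0, 0, 0⟩, ⟨0, 1, 0, -1, 0, -1, 0, -1⟩, ⟨-1, 1, -1, 1, -1, 1, -1, 1⟩⟩, [9, 7, 10, 9, 5, 10, 8, 10]),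
  (⟨⟨2, 0, 0, 0, 0, 0, 0, 0⟩, ⟨0, -1, 0, -1, 0, -1, 0, 1⟩, ⟨-1, 1, -1, 1, 1, -1, 1, -1⟩⟩, [9, 4, 10, 8, 10, 8, 10]),
  (⟨⟨2, 0, 0, 0, 0, 0, 0, 0⟩, ⟨0, 1, 0, 1, 0, 1, 0, -1⟩, ⟨-1, 1, -1, 1, 1, -1, 1, -1⟩⟩, [8, 6, 10, 8, 10, 6, 8, 10]),
  (⟨⟨2, 0, 0, 0, 0, 0, 0, 0⟩, ⟨0, -1, 0, 1, 0, -1, 0, -1⟩, ⟨-1, 1, 1, -1, -1, 1, 1, -1⟩⟩, [9, 5, 10, 8, 10, 8, 10]),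
  (⟨⟨2, 0, 0, 0, 0, 0, 0, 0⟩, ⟨0, 1, 0, -1, 0, 1, 0, 1⟩, ⟨-1, 1, 1, -1, -1, 1, 1, -1⟩⟩, [9, 6, 10, 8, 10, 6, 8, 10]),
  (⟨⟨2, 0, 0, 0, 0, 0, 0, 0⟩, ⟨0, -1, 0, -1, 0, 1, 0, -1⟩, ⟨-1, 1, 1, -1, 1, -1, -1, 1⟩⟩, [8, 10, 8, 3, 10, 8, 10]),
  (⟨⟨2, 0, 0, 0, 0, 0, 0, 0⟩, ⟨0, 1, 0, 1, 0, -1, 0, 1⟩, ⟨-1, 1, 1, -1, 1, -1, -1, 1⟩⟩, [8, 3, 10, 8, 3, 10, 8, 10]),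
  (⟨⟨2, 0, 0, 0, 0, 0, 0, 0⟩, ⟨0, 0, 0, 0, 0, 0, -2, 0⟩, ⟨-1, 2, -1, 0, -1, 0, 1, 0⟩⟩, [10, 6, 8, 3, 10, 8, 10]),
  (⟨⟨2, 0, 0, 0, 0, 0, 0, 0⟩, ⟨0, 0, 0, 0, 0, 0, 2, 0⟩, ⟨-1, 2, -1, 0, -1, 0, 1, 0⟩⟩, [10, 6, 8, 10, 8, 10]),
  (⟨⟨2, 0, 0, 0, 0, 0, 0, 0⟩, ⟨0, 0, 0, 0, -2, 0, 0, 0⟩, ⟨-1, 2, -1, 0, 1, 0, -1, 0⟩⟩, [10, 8, 6, 10, 8, 10]),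
  (⟨⟨2, 0, 0, 0, 0, 0, 0, 0⟩, ⟨0, 0, 0, 0, 2, 0, 0, 0⟩, ⟨-1, 2, -1, 0, 1, 0, -1, 0⟩⟩, [10, 9, 4, 10, 8, 10]),
  (⟨⟨2, 0, 0, 0, 0, 0, 0, 0⟩, ⟨0, 0, -2, 0, 0, 0, 0, 0⟩, ⟨-1, 2, 1, 0, -1, 0, -1, 0⟩⟩, [7, 10, 9, 6, 10, 8, 10]),
  (⟨⟨2, 0, 0, 0, 0, 0, 0, 0⟩, ⟨0, 0, 2, 0, 0, 0, 0, 0⟩, ⟨-1, 2, 1, 0, -1, 0, -1, 0⟩⟩, [7, 10, 9, 5, 10, 8, 10]),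
  (⟨⟨2, 0, 0, 0, 0, 0, 0, 0⟩, ⟨-2, 0, 0, 0, 0, 0, 0, 0⟩, ⟨-1, 2, 1, 0, 1, 0, 1, 0⟩⟩, [6, 10, 8, 10, 8, 3, 10]),
  (⟨⟨2, 0, 0, 0, 0, 0, 0, 0⟩, ⟨2, 0, 0, 0, 0, 0, 0, 0⟩, ⟨-1, 2, 1, 0, 1, 0, 1, 0⟩⟩, [10, 7, 9, 6, 10, 8, 10]),
  (⟨⟨2, 0, 0, 0, 0, 0, 0, 0⟩, ⟨-2, 0, 0, 0, 0, 0, 0, 0⟩, ⟨1, -2, -1, 0, -1, 0, -1, 0⟩⟩, [6, 10, 8, 10, 8, 10]),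
  (⟨⟨2, 0, 0, 0, 0, 0, 0, 0⟩, ⟨2, 0, 0, 0, 0, 0, 0, 0⟩, ⟨1, -2, -1, 0, -1, 0, -1, 0⟩⟩, [10, 7, 9, 10, 7, 8, 10]),
  (⟨⟨2, 0, 0, 0, 0, 0, 0, 0⟩, ⟨0, 0, -2, 0, 0, 0, 0, 0⟩, ⟨1, -2, -1, 0, 1, 0, 1, 0⟩⟩, [7, 10, 9, 10, 7, 8, 10]),
  (⟨⟨2, 0, 0, 0, 0, 0, 0, 0⟩, ⟨0, 0, 2, 0, 0, 0, 0, 0⟩, ⟨1, -2, -1, 0, 1, 0, 1, 0⟩⟩, [5, 4, 10, 8, 10, 8, 10]),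
  (⟨⟨2, 0, 0, 0, 0, 0, 0, 0⟩, ⟨0, 0, 0, 0, -2, 0, 0, 0⟩, ⟨1, -2, 1, 0, -1, 0, 1, 0⟩⟩, [10, 9, 10, 6, 8, 10]),
  (⟨⟨2, 0, 0, 0, 0, 0, 0, 0⟩, ⟨0, 0, 0, 0, 2, 0, 0, 0⟩, ⟨1, -2, 1, 0, -1, 0, 1, 0⟩⟩, [10, 9, 4, 10, 8, 3, 10]),
  (⟨⟨2, 0, 0, 0, 0, 0, 0, 0⟩, ⟨0, 0, 0, 0, 0, 0, -2, 0⟩, ⟨1, -2, 1, 0, 1, 0, -1, 0⟩⟩, [1, 10, 6, 8, 10, 8, 10]),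
  (⟨⟨2, 0, 0, 0, 0, 0, 0, 0⟩, ⟨0, 0, 0, 0, 0, 0, 2, 0⟩, ⟨1, -2, 1, 0, 1, 0, -1, 0⟩⟩, [10, 6, 8, 10, 8, 3, 10]),
  (⟨⟨2, 0, 0, 0, 0, 0, 0, 0⟩, ⟨0, -1, 0, -1, 0, 1, 0, -1⟩, ⟨1, -1, -1, 1, -1, 1, 1, -1⟩⟩, [8, 3, 10, 8, 10, 8, 3, 10]),
  (⟨⟨2, 0, 0, 0, 0, 0, 0, 0⟩, ⟨0, 1, 0, 1, 0, -1, 0, 1⟩, ⟨1, -1, -1, 1, -1, 1, 1, -1⟩⟩, [8, 10, 8, 10, 8, 3, 10]),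
  (⟨⟨2, 0, 0, 0, 0, 0, 0, 0⟩, ⟨0, -1, 0, 1, 0, -1, 0, -1⟩, ⟨1, -1, -1, 1, 1, -1, -1, 1⟩⟩, [9, 6, 10, 8, 4, 10, 8, 10]),
  (⟨⟨2, 0, 0, 0, 0, 0, 0, 0⟩, ⟨0, 1, 0, -1, 0, 1, 0, 1⟩, ⟨1, -1, -1, 1, 1, -1, -1, 1⟩⟩, [7, 8, 10, 8, 10, 8, 3, 10]),
  (⟨⟨2, 0, 0, 0, 0, 0, 0, 0⟩, ⟨0, -1, 0, -1, 0, -1, 0, 1⟩, ⟨1, -1, 1, -1, -1, 1, -1, 1⟩⟩, [8, 6, 10, 8, 4, 10, 8, 10]),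
  (⟨⟨2, 0, 0, 0, 0, 0, 0, 0⟩, ⟨0, 1, 0, 1, 0, 1, 0, -1⟩, ⟨1, -1, 1, -1, -1, 1, -1, 1⟩⟩, [9, 4, 1, 10, 8, 10, 8, 10]),
  (⟨⟨2, 0, 0, 0, 0, 0, 0, 0⟩, ⟨0, -1, 0, 1, 0, 1, 0, 1⟩, ⟨1, -1, 1, -1, 1, -1, 1, -1⟩⟩, [9, 7, 10, 9, 10, 7, 8, 10]),
  (⟨⟨2, 0, 0, 0, 0, 0, 0, 0⟩, ⟨0, 1, 0, -1, 0, -1, 0, -1⟩, ⟨1, -1, 1, -1, 1, -1, 1, -1⟩⟩, [8, 4, 10, 8, 10, 8, 10]),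
  (⟨⟨2, 0, 0, 0, 0, 0, 0, 0⟩, ⟨0, 0, 0, 0, -2, 0, 0, 0⟩, ⟨1, 0, -1, 0, -1, 0, -1, 2⟩⟩, [10, 8, 10, 8, 10]),
  (⟨⟨2, 0, 0, 0, 0, 0, 0, 0⟩, ⟨0, 0, 0, 0, 2, 0, 0, 0⟩, ⟨1, 0, -1, 0, -1, 0, -1, 2⟩⟩, [10, 8, 3, 10, 8, 10]),
  (⟨⟨2, 0, 0, 0, 0, 0, 0, 0⟩, ⟨0, 0, -2, 0, 0, 0, 0, 0⟩, ⟨1, 0, -1, 0, -1, 2, -1, 0⟩⟩, [7, 10, 8, 10, 8, 10]),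
  (⟨⟨2, 0, 0, 0, 0, 0, 0, 0⟩, ⟨0, 0, 2, 0, 0, 0, 0, 0⟩, ⟨1, 0, -1, 0, -1, 2, -1, 0⟩⟩, [7, 10, 8, 3, 10, 8, 10]),
  (⟨⟨2, 0, 0, 0, 0, 0, 0, 0⟩, ⟨-2, 0, 0, 0, 0, 0, 0, 0⟩, ⟨1, 0, -1, 0, 1, -2, 1, 0⟩⟩, [10, 7, 8, 3, 10, 8, 10]),
  (⟨⟨2, 0, 0, 0, 0, 0, 0, 0⟩, ⟨2, 0, 0, 0, 0, 0, 0, 0⟩, ⟨1, 0, -1, 0, 1, -2, 1, 0⟩⟩, [10, 7, 8, 10, 8, 10]),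
  (⟨⟨2, 0, 0, 0, 0, 0, 0, 0⟩, ⟨0, 0, 0, 0, 0, 0, -2, 0⟩, ⟨1, 0, -1, 0, 1, 0, 1, -2⟩⟩, [10, 6, 9, 4, 10, 8, 3, 10]),
  (⟨⟨2, 0, 0, 0, 0, 0, 0, 0⟩, ⟨0, 0, 0, 0, 0, 0, 2, 0⟩, ⟨1, 0, -1, 0, 1, 0, 1, -2⟩⟩, [8, 10, 8, 10, 6, 8, 10]),
  (⟨⟨2, 0, 0, 0, 0, 0, 0, 0⟩, ⟨0, 0, 0, 0, 0, 0, -2, 0⟩, ⟨1, 0, -1, 2, -1, 0, -1, 0⟩⟩, [7, 6, 10, 8, 10, 8, 10]),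
  (⟨⟨2, 0, 0, 0, 0, 0, 0, 0⟩, ⟨0, 0, 0, 0, 0, 0, 2, 0⟩, ⟨1, 0, -1, 2, -1, 0, -1, 0⟩⟩, [10, 6, 8, 10, 6, 8, 10]),
  (⟨⟨2, 0, 0, 0, 0, 0, 0, 0⟩, ⟨0, 0, 0, 0, -2, 0, 0, 0⟩, ⟨1, 0, -1, 2, 1, 0, 1, 0⟩⟩, [10, 9, 10, 7, 8, 10]),
  (⟨⟨2, 0, 0, 0, 0, 0, 0, 0⟩, ⟨0, 0, 0, 0, 2, 0, 0, 0⟩, ⟨1, 0, -1, 2, 1, 0, 1, 0⟩⟩, [10, 9, 5, 10, 8, 3, 10]),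
  (⟨⟨2, 0, 0, 0, 0, 0, 0, 0⟩, ⟨0, 0, -2, 0, 0, 0, 0, 0⟩, ⟨1, 0, 1, -2, -1, 0, 1, 0⟩⟩, [7, 10, 8, 6, 10, 8, 10]),
  (⟨⟨2, 0, 0, 0, 0, 0, 0, 0⟩, ⟨0, 0, 2, 0, 0, 0, 0, 0⟩, ⟨1, 0, 1, -2, -1, 0, 1, 0⟩⟩, [7, 10, 9, 4, 10, 8, 10]),
  (⟨⟨2, 0, 0, 0, 0, 0, 0, 0⟩, ⟨-2, 0, 0, 0, 0, 0, 0, 0⟩, ⟨1, 0, 1, -2, 1, 0, -1, 0⟩⟩, [10, 7, 9, 4, 10, 8, 10]),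
  (⟨⟨2, 0, 0, 0, 0, 0, 0, 0⟩, ⟨2, 0, 0, 0, 0, 0, 0, 0⟩, ⟨1, 0, 1, -2, 1, 0, -1, 0⟩⟩, [6, 10, 8, 4, 10, 8, 10]),
  (⟨⟨2, 0, 0, 0, 0, 0, 0, 0⟩, ⟨-2, 0, 0, 0, 0, 0, 0, 0⟩, ⟨1, 0, 1, 0, -1, 0, 1, -2⟩⟩, [6, 10, 8, 6, 10, 8, 10]),
  (⟨⟨2, 0, 0, 0, 0, 0, 0, 0⟩, ⟨2, 0, 0, 0, 0, 0, 0, 0⟩, ⟨1, 0, 1, 0, -1, 0, 1, -2⟩⟩, [10, 7, 8, 10, 6, 8, 10]),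
  (⟨⟨2, 0, 0, 0, 0, 0, 0, 0⟩, ⟨0, 0, 0, 0, 0, 0, -2, 0⟩, ⟨1, 0, 1, 0, -1, 2, 1, 0⟩⟩, [3, 4, 10, 8, 10, 8, 10]),
  (⟨⟨2, 0, 0, 0, 0, 0, 0, 0⟩, ⟨0, 0, 0, 0, 0, 0, 2, 0⟩, ⟨1, 0, 1, 0, -1, 2, 1, 0⟩⟩, [10, 6, 9, 10, 7, 8, 10]),
  (⟨⟨2, 0, 0, 0, 0, 0, 0, 0⟩, ⟨0, 0, 0, 0, -2, 0, 0, 0⟩, ⟨1, 0, 1, 0, 1, -2, -1, 0⟩⟩, [10, 9, 7, 10, 8, 10]),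
  (⟨⟨2, 0, 0, 0, 0, 0, 0, 0⟩, ⟨0, 0, 0, 0, 2, 0, 0, 0⟩, ⟨1, 0, 1, 0, 1, -2, -1, 0⟩⟩, [10, 8, 4, 10, 8, 10]),
  (⟨⟨2, 0, 0, 0, 0, 0, 0, 0⟩, ⟨0, 0, -2, 0, 0, 0, 0, 0⟩, ⟨1, 0, 1, 0, 1, 0, -1, 2⟩⟩, [7, 10, 8, 10, 6, 8, 10]),
  (⟨⟨2, 0, 0, 0, 0, 0, 0, 0⟩, ⟨0, 0, 2, 0, 0, 0, 0, 0⟩, ⟨1, 0, 1, 0, 1, 0, -1, 2⟩⟩, [7, 10, 8, 4, 10, 8, 3, 10])]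

/-- the roots -/
noncomputable def rt (g : ℕ) : V3 := nth rt0 rtL g
/-- the letters -/
noncomputable def lt (g : ℕ) : List ℕ × M3 := nth lt0 ltL g
/-- reflections -/
noncomputable def fr (g : ℕ) : V3 → V3 := F (rt g)
/-- letters -/
noncomputable def fl (g : ℕ) : V3 → V3 := ap (lt g).2
/-- test of a row -/
noncomputable def rowc (w : List ℕ) (e u : V3) : Bool :=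
  frcV (itr fr w e) fun v => eqV (v.sm 2) (u.sm (Int.ofNat (Nat.pow 8 w.length)))
/-- certified roots -/
noncomputable def Gc (v : V3) : Bool := frcV v fun v => anyL CC fun p => eqV p.1 v
/-- the test for norm one -/
noncomputable def P4 (y : Ic) : Bool := decide (IsI y → (y.nB = 0 ∨ y.nB = 4) ∧ (InL cH.st (c1.sb y) → anyL CY (eqQ y) = true))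
/-- the test for norm two -/
noncomputable def P8 (z : Ic) : Bool := decide (IsI z → -4 ≤ z.nB ∧ (z.nB ≤ 0 → (Root ⟨cH, z, c0⟩ → Gc ⟨cH, z, c0⟩ = true) ∧
  (InL cH.st (c1.sb z) → (allL CY fun y => decide (Root ⟨c1, y, z⟩ → Gc ⟨c1, y, z⟩ = true)) = true)))

theorem k_rt : allL (rt0 :: rtL) (fun v => decide (Root v)) = true := by decide +kernel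
theorem k_lt : allL ltL (fun p => band (rowc p.1 e0 p.2.p) (band (rowc p.1 e1 p.2.q) (rowc p.1 e2 p.2.r))) = true := by
  decide +kernel
theorem k_sq : allLt 11 (fun g => scal fl [g, g]) = true := by decide +kernel
theorem k_ER : allL ER (scal fl) = true := by decide +kernel
theorem k_CC : allL CC (fun p => band (decide (Root p.1)) (band (inS ALL p.2) (line p.1 (itr fl p.2 rt0)))) = true := by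
  decide +kernel
theorem k_4 : allS P4 8 4 c0 = true := by decide +kernel
theorem k_8 : allS P8 8 8 c0 = true := by decide +kernel

end CA.J2

theorem CA.realizeEqns_J2_Gen : True := by
  have := @CA.J2.rt.eq_1
  have := @CA.J2.rt.eq_def
  have := @CA.J2.rt.congr_simp
  have := @CA.J2.fl.eq_1
  have := @CA.J2.fl.eq_def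
  have := @CA.J2.fl.congr_simp
  have := @CA.J2.rtL.eq_1
  have := @CA.J2.rtL.eq_def
  have := @CA.J2.rtL.congr_simp
  have := @CA.J2.fr.eq_1
  have := @CA.J2.fr.eq_def
  have := @CA.J2.fr.congr_simp
  have := @CA.J2.ltL.eq_1
  have := @CA.J2.ltL.eq_def
  have := @CA.J2.ltL.congr_simp
  have := @CA.J2.lt0.eq_1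
  have := @CA.J2.lt0.eq_def
  have := @CA.J2.lt0.congr_simp
  have := @CA.J2.CC.eq_1
  have := @CA.J2.CC.eq_def
  have := @CA.J2.CC.congr_simp
  have := @CA.J2.lt.eq_1
  have := @CA.J2.lt.eq_def
  have := @CA.J2.lt.congr_simp
  have := @CA.J2.P8.eq_1
  have := @CA.J2.P8.eq_def
  have := @CA.J2.P8.congr_simp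
  have := @CA.J2.c2.eq_1
  have := @CA.J2.c2.eq_def
  have := @CA.J2.c2.congr_simp
  have := @CA.J2.Gc.eq_1
  have := @CA.J2.Gc.eq_def
  have := @CA.J2.Gc.congr_simp
  have := @CA.J2.rt0.eq_1
  have := @CA.J2.rt0.eq_def
  have := @CA.J2.rt0.congr_simp
  have := @CA.J2.CY.eq_1
  have := @CA.J2.CY.eq_def
  have := @CA.J2.CY.congr_simp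
  have := @CA.J2.rowc.eq_1
  have := @CA.J2.rowc.eq_def
  have := @CA.J2.rowc.congr_simp
  have := @CA.J2.P4.eq_1
  have := @CA.J2.P4.eq_def
  have := @CA.J2.P4.congr_simp
  trivial
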